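import Cfsg.Agent.DL.Datum
import Cfsg.Agent.DL.CF.Ind

/-!
# Assembly: the Deligne-Lusztig induction of a datum (helper89)
-/

set_option autoImplicit false

namespace Cfsg.Agent.DL.Asm

open Cfsg.Agent.Nodes.Reps Cfsg.Agent.DL.Uni
open scoped ComplexConjugate

variable {p : ℕ} [Fact p.Prime] {k : Type} [Field k] [CharP k p] {Y : Type} [Group Y] {N : Type} [Fintype N]
  [DecidableEq N] {ρ : Y →* GL N k} {F : MulAut Y} {G : Subgroup Y}

/-- `T` is an `F`-stable maximal torus and `V` the unipotent radical of a Borel subgroup containing it -/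
def Pair (D : Datum p ρ F G) (T V : Subgroup Y) : Prop :=
  ∃ y ∈ G, T = cj y D.T ∧ V = cj y D.U ∧ T.map F.toMonoidHom = T

/-- the `F`-stable maximal tori -/
def tori (D : Datum p ρ F G) : Set (Subgroup Y) := {T | ∃ y ∈ G, T = cj y D.T ∧ T.map F.toMonoidHom = T}

theorem mem_tori {D : Datum p ρ F G} {T : Subgroup Y} : T ∈ tori D ↔ ∃ V, Pair D T V :=
  ⟨fun ⟨y, hy, h1, h2⟩ => ⟨_, y, hy, h1, rfl, h2⟩, fun ⟨_, y, hy, h1, _, h2⟩ => ⟨y, hy, h1, h2⟩⟩

theorem Pair.mem_tori {D : Datum p ρ F G} {T V : Subgroup Y} (h : Pair D T V) : T ∈ tori D :=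
  Asm.mem_tori.2 ⟨V, h⟩

open Classical in
/-- a chosen unipotent radical -/
noncomputable def Vof (D : Datum p ρ F G) (T : Subgroup Y) : Subgroup Y :=
  if h : ∃ V, Pair D T V then h.choose else ⊥

theorem pair_Vof {D : Datum p ρ F G} {T : Subgroup Y} (h : T ∈ tori D) : Pair D T (Vof D T) := by
  rw [Vof, dif_pos (mem_tori.1 h)]
  exact (mem_tori.1 h).choose_spec

/-- the Deligne-Lusztig induction for the pair `(T, V)` -/
noncomputable abbrev RV (F : MulAut Y) (G T V : Subgroup Y) : (Y → ℂ) →ₗ[ℂ] (Y → ℂ) :=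
  CF.ind F G (T ⊓ GF F G) V

/-- the Deligne-Lusztig induction -/
noncomputable def R (D : Datum p ρ F G) (T : Subgroup Y) : (Y → ℂ) →ₗ[ℂ] (Y → ℂ) := RV F G T (Vof D T)

/-- Lang's theorem for a subgroup -/
def Lang (F : MulAut Y) (C : Subgroup Y) : Prop := ∀ a ∈ C, ∃ c ∈ C, a = c⁻¹ * F c

end Cfsg.Agent.DL.Asm
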