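import Cfsg.Agent.DL.Asm.Main
import Cfsg.Agent.DL.CF.Dat
import Cfsg.Agent.DL.St.Count

/-!
# Assembly: the full system from the remaining boxes (helper89)
-/

set_option autoImplicit false

namespace Cfsg.Agent.DL.Asm

open Cfsg.Agent.DL.Uni

variable {p : ℕ} [Fact p.Prime] {k : Type} [Field k] [CharP k p] [IsAlgClosed k] {Y : Type} [Group Y] {N : Type}
  [Fintype N] [DecidableEq N] {ρ : Y →* GL N k} {F : MulAut Y} {G : Subgroup Y}

theorem purBox (hM : Mk.Mackey) : CF.PurBox p ρ F := fun _ _ _ _ h => h.exists_pInd hM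

theorem orthBox (hM : Mk.Mackey) : CF.OrthBox p ρ F := fun _ _ _ _ _ _ h h' => h.orth hM h'

theorem pInd_ex (hM : Mk.Mackey) (D : Datum p ρ F G) : ∀ T V, Pair D T V → ∀ g ∈ GF F G, ∀ t ∈ T ⊓ GF F G,
    ∃ d, 0 < d ∧ CF.PInd p fun m => CF.cntF F G V g t (d * m) := fun _ _ h g hg t ht =>
  let ⟨d, hd, h1⟩ := h.exists_pInd hM
  ⟨d, hd, h1 d hd dvd_rfl g hg t ht⟩

theorem sys_of (hM : Mk.Mackey) (hS : CF.SubBox p ρ F) (D : Datum p ρ F G) : Sys p (GF F G) (tori D) (R D) :=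
  sys hM D (St.count D) (CF.pconst_R hS (purBox hM) D)

variable (p ρ F) in
/-- the Steinberg character (helper4) -/
def StBox : Prop := ∀ (G : Subgroup Y) (D : Datum p ρ F G),
  (∀ T V, Pair D T V → ∀ g ∈ GF F G, ∀ t ∈ T ⊓ GF F G,
    ∃ d, 0 < d ∧ CF.PInd p fun m => CF.cntF F G V g t (d * m)) → ∃ St, StD p (GF F G) (tori D) (R D) St

theorem full_of_boxes (hM : Mk.Mackey) (hS : CF.SubBox p ρ F) (hU : CF.UniBox p ρ F) (hSt : StBox p ρ F)
    (D : Datum p ρ F G) : Full p (GF F G) (tori D) (R D) :=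
  CF.full_of hS (purBox hM) (orthBox hM) hU (fun _ D => sys_of hM hS D) (fun G D => hSt G D (pInd_ex hM D)) D

end Cfsg.Agent.DL.Asm
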