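import Cfsg.Agent.DL.Lef.Rat
import Cfsg.Agent.DL.Uni.Ip
import Cfsg.Agent.DL.CF.Count
import Cfsg.Agent.Characters.Linear

/-!
# Assembly, abstract part (helper89)

`N m g t` is a sequence of functions on `H × K` (point counts), `L g t` its Lefschetz number and
`R f g = |K|⁻¹ ∑ t, L g t * f t`.
-/

set_option autoImplicit false

namespace Cfsg.Agent.DL.Asm

open Cfsg Cfsg.Agent.DL.Lef Cfsg.Agent.DL.Uni Cfsg.Agent.Nodes.Reps Cfsg.Agent.Characters
open scoped ComplexConjugate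

variable {Y : Type} [Group Y] {H K K' : Subgroup Y}

/-- `R` is the induction map defined by the Lefschetz numbers of `N` -/
structure IsInd (H K : Subgroup Y) [Fintype H] [Fintype K] (N : ℕ → Y → Y → ℂ)
    (R : (Y → ℂ) →ₗ[ℂ] (Y → ℂ)) : Prop where
  spec : Spectral (H × K) fun m z => N m z.1 z.2
  eq : ∀ f, ∀ g ∈ H, R f g = (Nat.card K : ℂ)⁻¹ * ∑ t : K, lef (fun m => N m g t) * f t

variable [Fintype H] [Fintype K] [Fintype K'] {N N' : ℕ → Y → Y → ℂ} {R R' : (Y → ℂ) →ₗ[ℂ] (Y → ℂ)}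

/-- the component of the counts -/
noncomputable def cmp (H K : Subgroup Y) [Fintype K] (N : ℕ → Y → Y → ℂ) (f : Y → ℂ) : ℕ → H → ℂ :=
  fun m g => (Nat.card K : ℂ)⁻¹ * ∑ t : K, N m g t * f t

omit [Fintype H] in
theorem cmp_eq_comp (N : ℕ → Y → Y → ℂ) (f : Y → ℂ) :
    cmp H K N f = comp (fun m (z : H × K) => N m z.1 z.2) fun t => conj (f t) := by
  funext m g
  simp [cmp, comp_apply]

namespace IsInd

theorem expI (h : IsInd H K N R) {g t : Y} (hg : g ∈ H) (ht : t ∈ K) : ExpI fun m => N m g t :=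
  h.spec.expI (⟨g, hg⟩, ⟨t, ht⟩)

theorem expI_cmp (h : IsInd H K N R) (f : Y → ℂ) (g : H) : ExpI fun m => cmp H K N f m g :=
  (ExpI.sum Finset.univ fun t _ => (h.expI g.2 t.2).mul_const _).smul _

theorem res_eq (h : IsInd H K N R) (f : Y → ℂ) : res H (R f) = lefFun (cmp H K N f) := by
  funext g
  rw [cmp_eq_comp, lefFun_comp h.spec.expC, res, h.eq f g g.2]
  simp [lefFun_apply]

theorem comp_mul (h : IsInd H K N R) {d : ℕ} (hd : 0 < d) : IsInd H K (fun m => N (d * m)) R :=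
  ⟨h.spec.comp_mul hd, fun f g hg => by
    rw [h.eq f g hg]
    congr 1
    exact Finset.sum_congr rfl fun t _ => by rw [lef_comp_mul (h.expI hg t.2).1 hd]⟩

theorem congr (h : IsInd H K N R) {f f' : Y → ℂ} (e : ∀ t ∈ K, f t = f' t) : ∀ g ∈ H, R f g = R f' g := by
  intro g hg
  rw [h.eq f g hg, h.eq f' g hg]
  congr 1
  exact Finset.sum_congr rfl fun t _ => by rw [e t t.2]

theorem spectral_cmp (h : IsInd H K N R) {θ : Y → ℂ} (hθ : IsLin K θ) : Spectral H (cmp H K N θ) := by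
  rw [cmp_eq_comp]
  refine h.spec.comp ?_
  have e : (fun t : K => conj (θ t)) = fun t => ((hθ.star.hom t : ℂˣ) : ℂ) := rfl
  rw [e]
  exact Linear.isCharacter_hom _

theorem gen (h : IsInd H K N R) {θ : Y → ℂ} (hθ : IsLin K θ) : IsGeneralizedCharacter H (res H (R θ)) := by
  rw [h.res_eq]
  exact (h.spectral_cmp hθ).isGeneralizedCharacter

theorem ip_eq (h : IsInd H K N R) (h' : IsInd H K' N' R') (f f' : Y → ℂ) :
    ip H (R f) (R' f') = lef fun m => classInner (cmp H K N f m) (cmp H K' N' f' m) := by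
  rw [ip_eq_classInner, h.res_eq, h'.res_eq,
    classInner_lefFun (fun g => (h.expI_cmp f g).1) fun g => (h'.expI_cmp f' g).1]

theorem ip_one (h : IsInd H K N R) (hN : ∀ t ∈ K, lef (fun m => ∑ g : H, N m g t) = Nat.card H)
    (f : Y → ℂ) : ip H (R f) 1 = ip K f 1 := by
  rw [ip_eq_sum, ip_eq_sum]
  simp only [Pi.one_apply, map_one, mul_one]
  rw [Finset.sum_congr rfl fun (g : H) _ => h.eq f g g.2, ← Finset.mul_sum, Finset.sum_comm]
  have h1 : ∀ t : K, ∑ g : H, lef (fun m => N m g t) * f t = Nat.card H * f t := fun t => by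
    rw [← Finset.sum_mul, ← hN t t.2, lef_sum _ fun g _ => (h.expI g.2 t.2).1]
  simp only [h1]
  rw [← Finset.mul_sum]
  have := card_ne_zero H
  field_simp

omit [Fintype H] in
theorem eq_sum_cmp (hc : ∀ a ∈ K, ∀ b ∈ K, a * b = b * a) [Fintype (K →* ℂˣ)] (N : ℕ → Y → Y → ℂ)
    (m : ℕ) (g : H) {t : Y} (ht : t ∈ K) :
    N m g t = ∑ θ : K →* ℂˣ, cmp H K N (star (lin θ)) m g * lin θ t := by
  rw [fourier hc (N m g) t ht, Finset.sum_apply]
  refine Finset.sum_congr rfl fun θ _ => ?_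
  rw [ip_eq_sum]
  rfl

variable {E : Type*} [NormedField E] [IsUltrametricDist E]

/-- purity of the counts from the norms of the components -/
theorem lInd (h : IsInd H K N R) (hc : ∀ a ∈ K, ∀ b ∈ K, a * b = b * a) {l : ℕ} (hl0 : l ≠ 0)
    (hl : ‖(l : E)‖ < 1) (ψ : ℂ →+* E)
    (hP : ∀ θ, IsLin K θ → ∃ (e Q : ℕ) (P : Polynomial ℂ), 0 < e ∧ ‖(Q : E)‖ = 1 ∧ ∀ m, 0 < m → e ∣ m →
      classInner (cmp H K N θ m) (cmp H K N θ m) = P.eval ((Q : ℂ) ^ m))
    {g t : Y} (hg : g ∈ H) (ht : t ∈ K) : LInd ψ fun m => N m g t := by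
  have := finite_hom K
  have : Fintype (K →* ℂˣ) := Fintype.ofFinite _
  refine (LInd.sum Finset.univ fun (θ : K →* ℂˣ) _ => ?_).congr
    fun m _ => (eq_sum_cmp hc N m ⟨g, hg⟩ ht).symm
  obtain ⟨e, Q, P, he, hQ, hP⟩ := hP _ (isLin_lin θ).star
  exact (lInd_of_norm_dvd hl0 hl ψ (h.expI_cmp _) he hQ P hP _).mul_const _

omit [Fintype H] [Fintype K'] in
theorem _root_.Cfsg.Agent.DL.Asm.ip_lin {θ θ' : Y → ℂ} (h : IsLin K θ) (h' : IsLin K θ')
    [Decidable (∀ t ∈ K, θ t = θ' t)] : ip K θ θ' = if ∀ t ∈ K, θ t = θ' t then 1 else 0 := by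
  classical
  rw [ip_congr (fun t ht => (h.lin_hom t ht).symm) fun t ht => (h'.lin_hom t ht).symm, ip_lin_lin]
  refine if_congr ⟨fun e t ht => ?_, fun e => ?_⟩ rfl rfl
  · rw [← h.lin_hom t ht, ← h'.lin_hom t ht, e]
  · ext t
    exact e t t.2

/-- orthogonality for all functions from orthogonality for linear characters -/
theorem orth (h : IsInd H K N R) (h' : IsInd H K' N' R') (hc : ∀ a ∈ K, ∀ b ∈ K, a * b = b * a)
    (hc' : ∀ a ∈ K', ∀ b ∈ K', a * b = b * a) (A : H → Prop)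
    (hA : ∀ x, A x → ∀ t ∈ K, (x : Y) * t * (x : Y)⁻¹ ∈ K')
    (hθ : ∀ θ θ', IsLin K θ → IsLin K' θ' → ip H (R θ) (R' θ') * Nat.card K =
      Nat.card {x : H // A x ∧ ∀ t ∈ K, θ t = θ' (x * t * (x : Y)⁻¹)}) (f f' : Y → ℂ) :
    ip H (R f) (R' f') =
      (Nat.card K : ℂ)⁻¹ * ∑ᶠ (x : H) (_ : A x), ip K f (fun t => f' (x * t * (x : Y)⁻¹)) := by
  classical
  have := finite_hom K
  have := finite_hom K'
  have : Fintype (K →* ℂˣ) := Fintype.ofFinite _
  have : Fintype (K' →* ℂˣ) := Fintype.ofFinite _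
  have h1 : ∀ θ θ', IsLin K θ → IsLin K' θ' → ip H (R θ) (R' θ') =
      (Nat.card K : ℂ)⁻¹ * ∑ x : H, if A x then ip K θ (fun t => θ' (x * t * (x : Y)⁻¹)) else 0 := by
    intro θ θ' a a'
    rw [eq_inv_mul_iff_mul_eq₀ (card_ne_zero K), mul_comm, hθ θ θ' a a', Nat.card_eq_fintype_card,
      Fintype.card_subtype, Finset.card_filter]
    push_cast
    refine Finset.sum_congr rfl fun x _ => ?_
    by_cases hx : A x
    · rw [if_pos hx, ip_lin a ⟨by simpa using a'.one, fun s hs t ht => by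
        rw [← a'.mul _ (hA x hx s hs) _ (hA x hx t ht)]
        congr 1
        group⟩]
      simp [hx]
    · simp [hx]
  rw [finsum_cond, ip_congr (h.congr (fourier hc f)) (h'.congr (fourier hc' f'))]
  have h2 : ∀ x : H, (if A x then ip K f (fun t => f' (x * t * (x : Y)⁻¹)) else 0) =
      ∑ θ : K →* ℂˣ, ∑ θ' : K' →* ℂˣ, ip K f (lin θ) * (conj (ip K' f' (lin θ')) *
        if A x then ip K (lin θ) (fun t => lin θ' (x * t * (x : Y)⁻¹)) else 0) := by
    intro x
    by_cases hx : A x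
    · simp only [if_pos hx]
      rw [ip_congr (fourier hc f) (g' := ∑ θ' : K' →* ℂˣ, ip K' f' (lin θ') •
        fun t => lin θ' (x * t * (x : Y)⁻¹)) fun t ht => by
          rw [fourier hc' f' _ (hA x hx t ht)]
          simp]
      simp only [ip_sum_left, ip_sum_right, ip_smul_left, ip_smul_right, Finset.mul_sum]
      rw [Finset.sum_comm]
      exact Finset.sum_congr rfl fun θ _ => Finset.sum_congr rfl fun θ' _ => by ring
    · simp [hx]
  simp only [h2, map_sum, map_smul, ip_sum_left, ip_sum_right, ip_smul_left, ip_smul_right,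
    h1 _ _ (isLin_lin _) (isLin_lin _), Finset.mul_sum]
  rw [Finset.sum_comm]
  conv_rhs => rw [Finset.sum_comm]
  refine Finset.sum_congr rfl fun θ _ => ?_
  conv_rhs => rw [Finset.sum_comm]
  exact Finset.sum_congr rfl fun θ' _ => Finset.sum_congr rfl fun x _ => by ring

end IsInd

omit [Fintype H] [Fintype K] [Fintype K'] in
theorem classInner_cmp [Fintype H] [Fintype K] [Fintype K'] (N N' : ℕ → Y → Y → ℂ)
    (hN' : ∀ m g t, conj (N' m g t) = N' m g t) (f f' : Y → ℂ) (m : ℕ) :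
    classInner (cmp H K N f m) (cmp H K' N' f' m) * (Nat.card H * Nat.card K * Nat.card K') =
      ∑ g : H, ∑ t : K, ∑ t' : K', f t * conj (f' t') * N m g t * N' m g t' := by
  have := card_ne_zero H
  have := card_ne_zero K
  have := card_ne_zero K'
  simp only [Core.classInner_def, cmp, map_mul, map_inv₀, map_natCast, map_sum, hN']
  rw [Finset.mul_sum, Finset.sum_mul]
  refine Finset.sum_congr rfl fun g _ => ?_
  have e : (∑ t : K, N m g t * f t) * ∑ t' : K', N' m g t' * conj (f' t') =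
      ∑ t : K, ∑ t' : K', f t * conj (f' t') * N m g t * N' m g t' := by
    rw [Finset.sum_mul_sum]
    exact Finset.sum_congr rfl fun t _ => Finset.sum_congr rfl fun t' _ => by ring
  rw [← e]
  field_simp

end Cfsg.Agent.DL.Asm
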