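import Cfsg.Agent.DL.Asm.Defs
import Cfsg.Agent.DL.Dat.Lang
import Cfsg.Agent.DL.Dw.Fix

/-!
# Assembly: levels of pairs and the product with the trivial character (helper89)
-/

set_option autoImplicit false
set_option linter.unusedSectionVars false

namespace Cfsg.Agent.DL.Asm

open Cfsg.Agent.Nodes.Reps Cfsg.Agent.Nodes.BNOf Cfsg.Agent.DL.Uni

section abs

variable {Y : Type} [Group Y]

/-- summing the counts over the finite group -/
theorem sum_cnt {F σ : MulAut Y} {G : Subgroup Y} [Fintype (GF F G)] {V : Set Y} (hVG : ∀ v ∈ V, v ∈ G)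
    (hL : Lang F G) (hσG : ∀ x ∈ G, σ x ∈ G) (hc : ∀ x, F (σ x) = σ (F x))
    {t : Y} (ht : t ∈ GF F G)
    (hfin : ∀ g, (CF.pts F.toMonoidHom σ.toMonoidHom G V g t).Finite) :
    ∑ g : GF F G, CF.cnt F.toMonoidHom σ.toMonoidHom G V g t =
      Nat.card (GF F G) * Nat.card {a : Y // a ∈ V ∧ σ a = t * a * t⁻¹} := by
  have : ∀ g : GF F G, Finite (CF.pts F.toMonoidHom σ.toMonoidHom G V g t) := fun g => hfin g
  simp only [CF.cnt]
  rw [← Nat.card_sigma, ← Nat.card_prod]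
  choose c hc1 hc2 using fun a : {a : Y // a ∈ V ∧ σ a = t * a * t⁻¹} => hL a (hVG a a.2.1)
  have h1 : ∀ (h : GF F G) a, ((h : Y) * c a)⁻¹ * F (h * c a) = a := fun h a => by
    rw [map_mul, (mem_GF.1 h.2).2, hc2 a]; group
  have h2 : ∀ (h : GF F G) a, σ (h * c a) * t * ((h : Y) * c a)⁻¹ ∈ GF F G := fun h a => by
    have hx : (h : Y) * c a ∈ G := mul_mem h.2.1 (hc1 a)
    refine mem_GF.2 ⟨mul_mem (mul_mem (hσG _ hx) ht.1) (inv_mem hx), ?_⟩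
    have e1 : F ((h : Y) * c a) = h * c a * a := by rw [← h1 h a]; group
    rw [map_mul, map_mul, map_inv, hc, e1, map_mul, a.2.2, (mem_GF.1 ht).2]
    group
  symm
  refine Nat.card_eq_of_bijective (fun z => ⟨⟨_, h2 z.1 z.2⟩, ⟨z.1 * c z.2, mul_mem z.1.2.1 (hc1 _), ?_, ?_⟩⟩)
    ⟨?_, ?_⟩
  · show ((z.1 : Y) * c z.2)⁻¹ * F (z.1 * c z.2) ∈ V
    rw [h1]; exact z.2.2.1
  · show σ (z.1 * c z.2) = σ (z.1 * c z.2) * t * ((z.1 : Y) * c z.2)⁻¹ * (z.1 * c z.2) * t⁻¹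
    group
  · rintro ⟨h, a⟩ ⟨h', a'⟩ e
    have e1 : (h : Y) * c a = h' * c a' := congrArg (fun z : Σ g : GF F G,
      CF.pts F.toMonoidHom σ.toMonoidHom G V g t => (z.2 : Y)) e
    have e2 : a = a' := Subtype.ext (by rw [← h1 h a, ← h1 h' a', e1])
    subst e2
    rw [Subtype.ext (mul_right_cancel e1 : (h : Y) = h')]
  · rintro ⟨g, x, hx1, hx2, hx3⟩
    have hx3' : σ x = g * x * t⁻¹ := hx3
    have ha : σ (x⁻¹ * F x) = t * (x⁻¹ * F x) * t⁻¹ := by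
      rw [map_mul, map_inv, ← hc, hx3', map_mul, map_mul, map_inv, (mem_GF.1 g.2).2, (mem_GF.1 ht).2]
      group
    set a : {a : Y // a ∈ V ∧ σ a = t * a * t⁻¹} := ⟨x⁻¹ * F x, hx2, ha⟩ with haa
    have hh : x * (c a)⁻¹ ∈ GF F G := by
      refine mem_GF.2 ⟨mul_mem hx1 (inv_mem (hc1 a)), ?_⟩
      have e1 : x⁻¹ * F x = (c a)⁻¹ * F (c a) := hc2 a
      rw [map_mul, map_inv]
      calc F x * (F (c a))⁻¹ = x * (x⁻¹ * F x) * (F (c a))⁻¹ := by group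
        _ = x * (c a)⁻¹ := by rw [e1]; group
    refine ⟨(⟨_, hh⟩, a), ?_⟩
    have e1 : x * (c a)⁻¹ * c a = x := by group
    have e2 : (⟨_, h2 ⟨_, hh⟩ a⟩ : GF F G) = g := Subtype.ext (by
      show σ (x * (c a)⁻¹ * c a) * t * (x * (c a)⁻¹ * c a)⁻¹ = g
      rw [e1, hx3']; group)
    exact Sigma.subtype_ext e2 e1

end abs

variable {p : ℕ} [Fact p.Prime] {k : Type} [Field k] [CharP k p] [IsAlgClosed k] {Y : Type} [Group Y] {N : Type}
  [Fintype N] [DecidableEq N] {ρ : Y →* GL N k} {F : MulAut Y} {G : Subgroup Y} {D : Datum p ρ F G}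

theorem lang (D : Datum p ρ F G) : Lang F G := fun _ ha => D.lang_G ha

theorem card_S_fix {d e : ℕ} (H : D.Split d e) {A : Set (D.I → ℤ)} (hA : D.Uni A) :
    Nat.card {u : Y // u ∈ D.S A ∧ (F ^ d) u = u} = (p ^ e) ^ A.ncard := by
  classical
  obtain ⟨L, hL⟩ := hA.exists_ord
  have hp : p.Prime := Fact.out
  have hQ : 1 < p ^ e := Nat.one_lt_pow H.e_pos.ne' hp.one_lt
  have hfin : Finite A := (D.finite_roots.subset hA.root).to_subtype
  have h0 : Nat.card (Dw.rootF k (p ^ e)) = p ^ e := by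
    rw [Nat.card_eq_fintype_card, Fintype.card_coe, Dw.card_rootF hp H.e_pos]
  rw [← Nat.card_coe_set_eq, ← h0, ← Nat.card_fun]
  symm
  let ext : (A → Dw.rootF k (p ^ e)) → (D.I → ℤ) → k := fun c a => if h : a ∈ A then c ⟨a, h⟩ else 0
  refine Nat.card_eq_of_bijective (fun c => ⟨D.lp L (ext c), hL.lp_mem _, ?_⟩) ⟨fun c c' e => ?_, ?_⟩
  · rw [H.lp hL.root]
    refine D.lp_congr fun a ha => ?_
    have ha' := (hL.mem a).1 ha
    simp only [ext, dif_pos ha']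
    exact (Dw.mem_rootF hQ).1 (c ⟨a, ha'⟩).2
  · funext a
    have := hL.inj (congrArg Subtype.val e) a a.2
    simp only [ext, dif_pos a.2] at this
    exact Subtype.ext this
  · rintro ⟨u, hu, hfix⟩
    obtain ⟨c, -, rfl⟩ := hL.ex hA.cl subset_rfl hu
    rw [H.lp hL.root] at hfix
    refine ⟨fun a => ⟨c a, (Dw.mem_rootF hQ).2 (hL.inj hfix a a.2)⟩, Subtype.ext (D.lp_congr fun a ha => ?_)⟩
    simp only [ext, dif_pos ((hL.mem a).1 ha)]

/-- `F ^ d` is a split Frobenius map for the pair `(T, V)` -/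
def Lev (D : Datum p ρ F G) (T V : Subgroup Y) (d e : ℕ) : Prop :=
  D.Split d e ∧ ∃ y ∈ G, T = cj y D.T ∧ V = cj y D.U ∧ T.map F.toMonoidHom = T ∧ (F ^ d) y = y

theorem exists_split_fix (D : Datum p ρ F G) (y : Y) :
    ∃ d₀, 0 < d₀ ∧ ∀ d, 0 < d → d₀ ∣ d → ∃ e, D.Split d e ∧ (F ^ d) y = y := by
  obtain ⟨m₀, hm₀, h₀⟩ := D.exists_split
  obtain ⟨m₁, hm₁, h₁⟩ := D.amb.exists_pow_fix fun _ : Unit => y
  refine ⟨D.amb.d * (m₀ * m₁), Nat.mul_pos D.amb.d_pos (Nat.mul_pos hm₀ hm₁), ?_⟩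
  rintro d hd ⟨j, rfl⟩
  have hj : 0 < j := Nat.pos_of_mul_pos_left hd
  refine ⟨D.amb.e * (m₀ * m₁ * j), ?_, ?_⟩
  · rw [mul_assoc]
    exact h₀ _ (by positivity) (by rw [mul_assoc]; exact dvd_mul_right _ _)
  · rw [show D.amb.d * (m₀ * m₁) * j = m₁ * (D.amb.d * m₀ * j) by ring, pow_mul]
    exact CF.pow_apply_of_fixed (h₁ ()) _

theorem Pair.exists_lev {T V : Subgroup Y} (h : Pair D T V) :
    ∃ d₀, 0 < d₀ ∧ ∀ d, 0 < d → d₀ ∣ d → ∃ e, Lev D T V d e := by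
  obtain ⟨y, hy, h1, h2, h3⟩ := h
  obtain ⟨d₀, hd₀, h⟩ := exists_split_fix D y
  refine ⟨d₀, hd₀, fun d hd hdd => ?_⟩
  obtain ⟨e, h4, h5⟩ := h d hd hdd
  exact ⟨e, h4, y, hy, h1, h2, h3, h5⟩

namespace Pair

variable {T V : Subgroup Y} (h : Pair D T V)
include h

theorem T_le : T ≤ G := by
  obtain ⟨y, hy, rfl, -, -⟩ := h
  exact (cj_mono y D.T_le_G).trans (cj_eq_of_mem hy).le

theorem V_le : V ≤ G := by
  obtain ⟨y, hy, -, rfl, -⟩ := h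
  exact (cj_mono y D.U_le_G).trans (cj_eq_of_mem hy).le

theorem comm {a b : Y} (ha : a ∈ T) (hb : b ∈ T) : a * b = b * a := by
  obtain ⟨y, hy, rfl, -, -⟩ := h
  have := D.T_comm (mem_cj.1 ha) (mem_cj.1 hb)
  calc a * b = y * (y⁻¹ * a * y * (y⁻¹ * b * y)) * y⁻¹ := by group
    _ = b * a := by rw [this]; group

theorem norm {t v : Y} (ht : t ∈ T) (hv : v ∈ V) : t * v * t⁻¹ ∈ V := by
  obtain ⟨y, hy, rfl, rfl, -⟩ := h
  have := D.conj_mem_U_of_T (mem_cj.1 ht) (mem_cj.1 hv)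
  rw [mem_cj]
  convert this using 1
  group

theorem div {t : Y} (ht : t ∈ T) {m : ℕ} (hm : m ≠ 0) : ∃ s ∈ T, s ^ m = t := by
  obtain ⟨y, hy, rfl, -, -⟩ := h
  obtain ⟨s, hs, e⟩ := D.exists_pow_eq_T (mem_cj.1 ht) hm
  refine ⟨y * s * y⁻¹, conj_mem_cj.2 hs, ?_⟩
  rw [conj_pow, e]; group

theorem conj {x : Y} (hx : x ∈ GF F G) : Pair D (cj x T) (cj x V) := by
  obtain ⟨y, hy, h1, h2, h3⟩ := h
  refine ⟨x * y, mul_mem hx.1 hy, by rw [cj_mul, h1], by rw [cj_mul, h2], ?_⟩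
  ext z
  have e : ∀ w, w ∈ T ↔ F.symm w ∈ T := fun w => by
    conv_lhs => rw [← h3]
    exact Subgroup.mem_map_equiv
  have hx' : F.symm x = x := by rw [MulEquiv.symm_apply_eq, (mem_GF.1 hx).2]
  rw [Subgroup.mem_map_equiv, mem_cj, mem_cj, e (x⁻¹ * z * x), map_mul, map_mul, map_inv, hx']

theorem ss {t : Y} (ht : t ∈ T) : IsSs p t := by
  obtain ⟨y, hy, rfl, -, -⟩ := h
  have hp : p.Prime := Fact.out
  obtain ⟨d, hd, h1⟩ := exists_split_fix D (y⁻¹ * t * y)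
  obtain ⟨e, H, h2⟩ := h1 d hd dvd_rfl
  rw [H.T (mem_cj.1 ht)] at h2
  obtain ⟨n, hn⟩ : ∃ n, p ^ e = n + 1 := ⟨p ^ e - 1, by have := pow_pos hp.pos e; omega⟩
  rw [hn, pow_succ, mul_eq_right] at h2
  have h3 : t ^ n = 1 := by
    have : t = y * (y⁻¹ * t * y) * y⁻¹ := by group
    rw [this, conj_pow, h2]; group
  intro h4
  have h5 : p ∣ n + 1 := hn ▸ dvd_pow_self p H.e_pos.ne'
  exact hp.one_lt.ne' (Nat.dvd_one.1 ((Nat.dvd_add_right (h4.trans (orderOf_dvd_of_pow_eq_one h3))).1 h5))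

end Pair

namespace Lev

variable {T V : Subgroup Y} {d e : ℕ} (h : Lev D T V d e)
include h

theorem pair : Pair D T V := by
  obtain ⟨-, y, hy, h1, h2, h3, -⟩ := h
  exact ⟨y, hy, h1, h2, h3⟩

theorem mul {m : ℕ} (hm : 0 < m) : Lev D T V (d * m) (e * m) := by
  obtain ⟨H, y, hy, h1, h2, h3, h4⟩ := h
  exact ⟨H.mul hm, y, hy, h1, h2, h3, by rw [pow_mul]; exact CF.pow_apply_of_fixed h4 _⟩

theorem map_V {v : Y} (hv : v ∈ V) : (F ^ d) v ∈ V := by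
  obtain ⟨H, y, hy, -, rfl, -, h4⟩ := h
  have := H.mem_S (A := RGD.Pos D.cs D.h) (fun _ h => h.1) (mem_cj.1 hv)
  rwa [map_mul, map_mul, map_inv, h4, ← mem_cj] at this

theorem map_T {t : Y} (ht : t ∈ T) : (F ^ d) t = t ^ p ^ e := by
  obtain ⟨H, y, hy, rfl, -, -, h4⟩ := h
  have := H.T (mem_cj.1 ht)
  rw [map_mul, map_mul, map_inv, h4] at this
  calc (F ^ d) t = y * (y⁻¹ * (F ^ d) t * y) * y⁻¹ := by group
    _ = t ^ p ^ e := by rw [this, ← conj_pow]; group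

theorem card_fix : Nat.card {a : Y // a ∈ V ∧ (F ^ d) a = a} = (p ^ e) ^ (RGD.Pos D.cs D.h).ncard := by
  obtain ⟨H, y, hy, -, rfl, -, h4⟩ := h
  rw [← card_S_fix H D.uni_pos]
  refine Nat.card_congr ((MulAut.conj y⁻¹).toEquiv.subtypeEquiv fun x => ?_)
  have e : (MulAut.conj y⁻¹).toEquiv x = y⁻¹ * x * y := by simp
  rw [e, mem_cj, map_mul, map_mul, map_inv, h4]
  simp

theorem card_tw {t : Y} (ht : t ∈ T) :
    Nat.card {a : Y // a ∈ V ∧ (F ^ d) a = t * a * t⁻¹} = (p ^ e) ^ (RGD.Pos D.cs D.h).ncard := by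
  have hp : p.Prime := Fact.out
  have hQ : 1 < p ^ e := Nat.one_lt_pow h.1.e_pos.ne' hp.one_lt
  obtain ⟨n, hn⟩ : ∃ n, p ^ e = n + 1 := ⟨p ^ e - 1, by omega⟩
  obtain ⟨s, hs, hst⟩ := h.pair.div ht (m := n) (by omega)
  have h1 : (F ^ d) s = s * t := by rw [h.map_T hs, hn, pow_succ', hst]
  rw [← h.card_fix]
  refine Nat.card_congr ((MulAut.conj s⁻¹).toEquiv.subtypeEquiv fun x => ?_)
  have e : (MulAut.conj s⁻¹).toEquiv x = s⁻¹ * x * s := by simp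
  rw [e, map_mul, map_mul, map_inv, h1, h.pair.comm hs ht]
  refine and_congr ⟨fun hx => ?_, fun hx => ?_⟩ ⟨fun hx => ?_, fun hx => ?_⟩
  · simpa using h.pair.norm (inv_mem hs) hx
  · have := h.pair.norm hs hx
    convert this using 1; group
  · rw [hx]; group
  · calc (F ^ d) x = t * s * ((t * s)⁻¹ * (F ^ d) x * (t * s)) * (t * s)⁻¹ := by group
      _ = t * x * t⁻¹ := by rw [hx]; group

theorem sum_cntF [Fintype (GF F G)] {t : Y} (ht : t ∈ T ⊓ GF F G) {m : ℕ} (hm : 0 < m) :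
    ∑ g : GF F G, CF.cntF F G V g t (d * m) =
      Nat.card (GF F G) * (((p : ℂ) ^ e) ^ (RGD.Pos D.cs D.h).ncard) ^ m := by
  have h1 := sum_cnt (σ := F ^ (d * m)) (V := (V : Set Y)) h.pair.V_le (lang D)
    (fun x hx => CF.pow_apply_mem (S := (G : Set Y)) (fun _ => D.F_mem_G) _ hx)
    (fun x => by rw [← MulAut.mul_apply, ← MulAut.mul_apply, ← pow_succ, ← pow_succ'])
    ht.2
    (fun g => CF.finite_ptsF (fun n hn => D.amb.finite_fix_pow hn) (mem_GF.1 ht.2).2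
      (D.amb.isOfFinOrder t) (Nat.mul_pos h.1.d_pos hm))
  have h2 := (h.mul hm).card_tw ht.1
  simp only [CF.cntF]
  rw [← Nat.cast_sum, h1]
  simp only [SetLike.mem_coe]
  rw [h2]
  push_cast
  ring

end Lev

end Cfsg.Agent.DL.Asm
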