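import Cfsg.Agent.DL.Asm.Abs
import Cfsg.Agent.DL.Asm.Triv
import Cfsg.Agent.DL.Gd.Dat
import Cfsg.Agent.DL.Dw.Main
import Cfsg.Agent.DL.Mk.Stmt

/-!
# Assembly: virtual characters, orthogonality, purity (helper89)
-/

set_option autoImplicit false
set_option linter.unusedSectionVars false

namespace Cfsg.Agent.DL.Asm

open Cfsg Cfsg.Agent.Nodes.Reps Cfsg.Agent.Nodes.BNOf Cfsg.Agent.DL.Uni Cfsg.Agent.DL.Lef
  Cfsg.Agent.Characters
open scoped ComplexConjugate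

section laurent

variable {S : ℕ → ℂ} {x : ℂ} {L : ℕ} {P : Polynomial ℂ}

theorem lef_of_laurent (hS : ExpC S) (hx : x ≠ 0) (h : ∀ m, 0 < m → (x ^ m) ^ L * S m = P.eval (x ^ m)) :
    lef S = P.eval 1 := by
  rw [← lef_eval_pow hx P, ← lef_congr h, lef_mul ((expC_pow hx).pow L) hS, lef_npow (expC_pow hx), lef_pow hx,
    one_pow, one_mul]

theorem unitBases_of_laurent {E : Type*} [NormedField E] {ψ : ℂ →+* E} (h1 : ‖ψ x‖ = 1) (h2 : ‖ψ (conj x)‖ = 1)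
    (h : ∀ m, 0 < m → (x ^ m) ^ L * S m = P.eval (x ^ m)) : UnitBases ψ S := by
  have hx : x ≠ 0 := by rintro rfl; simp at h1
  refine (((unitBases_pow (x := x⁻¹) (by simp [h1]) (by simp [h2])).pow L).mul
    (unitBases_eval_pow h1 h2 P)).congr fun m hm => ?_
  rw [← h m hm, ← mul_assoc, ← mul_pow, ← mul_pow, inv_mul_cancel₀ hx, one_pow, one_pow, one_mul]

end laurent

section abs

variable {Y : Type} [Group Y] {H K K' : Subgroup Y} [Fintype H] [Fintype K] [Fintype K']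

theorem IsInd.lInd' {N : ℕ → Y → Y → ℂ} {R : (Y → ℂ) →ₗ[ℂ] (Y → ℂ)} {E : Type*} [NormedField E]
    [IsUltrametricDist E] (h : IsInd H K N R) (hc : ∀ a ∈ K, ∀ b ∈ K, a * b = b * a) {l : ℕ}
    (hl0 : l ≠ 0) (hl : ‖(l : E)‖ < 1) (ψ : ℂ →+* E)
    (hP : ∀ θ, IsLin K θ → ∃ e : ℕ, 0 < e ∧
      UnitBases ψ fun m => classInner (cmp H K N θ (e * m)) (cmp H K N θ (e * m)))
    {g t : Y} (hg : g ∈ H) (ht : t ∈ K) : LInd ψ fun m => N m g t := by
  have := finite_hom K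
  have : Fintype (K →* ℂˣ) := Fintype.ofFinite _
  refine (LInd.sum Finset.univ fun (θ : K →* ℂˣ) _ => ?_).congr
    fun m _ => (IsInd.eq_sum_cmp hc N m ⟨g, hg⟩ ht).symm
  obtain ⟨e, he, hP⟩ := hP _ (isLin_lin θ).star
  refine LInd.mul_const ?_ _
  rw [← lInd_comp_mul_iff hl0 hl ψ (h.expI_cmp _ _) he]
  exact lInd_of_norm hl0 hl ψ (R := fun m => cmp H K N (star (lin θ)) (e * m))
    (fun g => (h.expI_cmp _ g).comp_mul he) hP _

theorem classInner_cmp' (N N' : ℕ → Y → Y → ℂ)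
    (hN' : ∀ m g t, conj (N' m g t) = N' m g t) (f f' : Y → ℂ) (m : ℕ) :
    classInner (cmp H K N f m) (cmp H K' N' f' m) * (Nat.card H * Nat.card K * Nat.card K') =
      ∑ g : H, (∑ t : K, N m g t * f t) * ∑ t' : K', N' m g t' * (star f') t' := by
  rw [classInner_cmp N N' hN']
  refine Finset.sum_congr rfl fun g _ => ?_
  rw [Finset.sum_mul_sum]
  exact Finset.sum_congr rfl fun t _ => Finset.sum_congr rfl fun t' _ => by
    simp only [Pi.star_apply, RCLike.star_def]; ring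

end abs

variable {p : ℕ} [Fact p.Prime] {k : Type} [Field k] [CharP k p] [IsAlgClosed k] {Y : Type} [Group Y] {N : Type}
  [Fintype N] [DecidableEq N] {ρ : Y →* GL N k} {F : MulAut Y} {G : Subgroup Y} {D : Datum p ρ F G}

/-- the counts at the levels `d * m` -/
noncomputable abbrev cn (F : MulAut Y) (G V : Subgroup Y) (d : ℕ) : ℕ → Y → Y → ℂ :=
  fun m g t => CF.cntF F G V g t (d * m)

theorem Pair.cg {T V : Subgroup Y} (h : Pair D T V) : Cn.CG k (Cn.rhoM ρ) V := by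
  obtain ⟨y, hy, -, rfl, -⟩ := h
  exact (Cn.polyOn_rho D).cg_U.cj y

theorem Lev.isInd {T V : Subgroup Y} {d e : ℕ} (h : Lev D T V d e) [Fintype (GF F G)]
    [Fintype ↥(T ⊓ GF F G)] : IsInd (GF F G) (T ⊓ GF F G) (cn F G V d) (RV F G T V) := by
  have h1 := (Gd.spectral_datum_prod Dw.boxDwork D h.1.e_pos h.1.frob h.pair.cg (fun v hv => h.map_V hv)
    (H := GF F G) (L := T ⊓ GF F G) le_rfl inf_le_right fun l hl v hv => h.pair.norm hl.1 hv).congr
    (R' := fun m z => cn F G V d m z.1 z.2) fun m _ => by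
      funext z
      simp only [cn, CF.cntF_mul]
  refine ⟨h1, fun f g hg => ?_⟩
  rw [CF.ind_apply']
  congr 1
  exact Finset.sum_congr rfl fun t _ => by rw [CF.lam_eq h.1.d_pos (h1.expC (⟨g, hg⟩, t))]

theorem Pair.exists_isInd {T V : Subgroup Y} (h : Pair D T V) [Fintype (GF F G)] [Fintype ↥(T ⊓ GF F G)] :
    ∃ d₀, 0 < d₀ ∧ ∀ d, 0 < d → d₀ ∣ d → IsInd (GF F G) (T ⊓ GF F G) (cn F G V d) (RV F G T V) := by
  obtain ⟨d₀, hd₀, h1⟩ := h.exists_lev
  refine ⟨d₀, hd₀, fun d hd hdd => ?_⟩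
  obtain ⟨e, h2⟩ := h1 d hd hdd
  exact h2.isInd

theorem finite_GF (D : Datum p ρ F G) : Finite (GF F G) := D.amb.finite_GF G

theorem finite_inf_GF (D : Datum p ρ F G) (T : Subgroup Y) : Finite ↥(T ⊓ GF F G) :=
  have := finite_GF D
  finite_inf T

/-- `R_T^θ` is a generalized character -/
theorem Pair.gen {T V : Subgroup Y} (h : Pair D T V) {θ : Y → ℂ} (hθ : IsLin (T ⊓ GF F G) θ) :
    IsGeneralizedCharacter (GF F G) (res (GF F G) (RV F G T V θ)) := by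
  have := finite_GF D
  have := finite_inf_GF D T
  have := Fintype.ofFinite (GF F G)
  have := Fintype.ofFinite ↥(T ⊓ GF F G)
  obtain ⟨d, hd, h1⟩ := h.exists_isInd
  exact (h1 d hd dvd_rfl).gen hθ

theorem Pair.triv {T V : Subgroup Y} (h : Pair D T V) (f : Y → ℂ) :
    ip (GF F G) (RV F G T V f) 1 = ip (T ⊓ GF F G) f 1 := by
  have := finite_GF D
  have := finite_inf_GF D T
  have := Fintype.ofFinite (GF F G)
  have := Fintype.ofFinite ↥(T ⊓ GF F G)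
  obtain ⟨d, hd, h1⟩ := h.exists_lev
  obtain ⟨e, h2⟩ := h1 d hd dvd_rfl
  refine h2.isInd.ip_one (fun t ht => ?_) f
  rw [lef_congr fun m hm => h2.sum_cntF ht hm, lef_geom]
  exact pow_ne_zero _ (pow_ne_zero _ (Nat.cast_ne_zero.2 (Fact.out : p.Prime).ne_zero))

/-- the Mackey count in terms of scalar products -/
theorem mackey_pair (hM : Mk.Mackey) {T V T' V' : Subgroup Y} (h : Pair D T V) (h' : Pair D T' V')
    [Fintype (GF F G)] [Fintype ↥(T ⊓ GF F G)] [Fintype ↥(T' ⊓ GF F G)] {θ θ' : Y → ℂ}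
    (hθ : IsLin (T ⊓ GF F G) θ) (hθ' : IsLin (T' ⊓ GF F G) θ') :
    ∃ d₀, 0 < d₀ ∧ ∀ d, 0 < d → d₀ ∣ d → ∃ (e L : ℕ) (P : Polynomial ℂ),
      (∀ m, 0 < m → (((p : ℂ) ^ e) ^ m) ^ L * classInner (cmp (GF F G) (T ⊓ GF F G) (cn F G V d) θ m)
        (cmp (GF F G) (T' ⊓ GF F G) (cn F G V' d) θ' m) = P.eval (((p : ℂ) ^ e) ^ m)) ∧
      P.eval 1 * Nat.card ↥(T ⊓ GF F G) = Nat.card {x : GF F G // cj (x : Y) T = T' ∧
        ∀ t ∈ T ⊓ GF F G, θ t = θ' (x * t * (x : Y)⁻¹)} := by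
  obtain ⟨y, hy, rfl, rfl, h1⟩ := h
  obtain ⟨y', hy', rfl, rfl, h1'⟩ := h'
  obtain ⟨d₀, e, hd₀, -, P, L, h2, h3⟩ := hM p k Y N ρ F G D y y' hy hy' h1 h1' θ (star θ') hθ hθ'.star
  refine ⟨d₀, hd₀, ?_⟩
  rintro d hd ⟨j, rfl⟩
  have hj : 0 < j := Nat.pos_of_mul_pos_left hd
  refine ⟨e * j, L, P.map (Int.castRingHom ℂ), fun m hm => ?_, ?_⟩
  · have h4 := h2 (j * m) (Nat.mul_pos hj hm)
    have h5 := classInner_cmp' (H := GF F G) (K := cj y D.T ⊓ GF F G) (K' := cj y' D.T ⊓ GF F G)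
      (cn F G (cj y D.U) (d₀ * j)) (cn F G (cj y' D.U) (d₀ * j))
      (fun m g t => by simp [CF.cntF]) θ θ' m
    simp only [Mk.mkSum, finsum_eq_sum_of_fintype, ← CF.cntF_mul, ← mul_assoc d₀] at h4
    have e1 : ((p : ℂ) ^ (e * j)) ^ m = ((p : ℂ) ^ e) ^ (j * m) := by rw [← pow_mul, ← pow_mul, mul_assoc]
    have hc : (Nat.card (GF F G) : ℂ) * Nat.card ↥(cj y D.T ⊓ GF F G) * Nat.card ↥(cj y' D.T ⊓ GF F G) ≠ 0 :=
      mul_ne_zero (mul_ne_zero (card_ne_zero _) (card_ne_zero _)) (card_ne_zero _)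
    rw [← h5] at h4
    rw [e1, Polynomial.eval_map, ← algebraMap_int_eq, ← Polynomial.aeval_def]
    refine mul_left_cancel₀ hc ?_
    rw [← h4]; ring
  · have h4 := congrArg (Int.cast : ℤ → ℂ) h3
    push_cast at h4
    rw [Polynomial.eval_one_map, eq_intCast, h4]
    congr 1
    refine Nat.card_congr (Equiv.subtypeEquivRight fun x => and_congr_right fun hx =>
      forall₂_congr fun t ht => ?_)
    have h5 : (x : Y) * t * (x : Y)⁻¹ ∈ cj y' D.T ⊓ GF F G := by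
      rw [← hx, cj_inf x.2]; exact conj_mem_cj.2 ht
    have h6 := hθ'.mul_conj h5
    constructor
    · intro h7
      have h8 : conj (θ' (x * t * (x : Y)⁻¹)) ≠ 0 := right_ne_zero_of_mul_eq_one h6
      exact mul_right_cancel₀ h8 (h7.trans h6.symm)
    · intro h7
      rw [h7]; exact h6

/-- orthogonality for two pairs -/
theorem Pair.orth (hM : Mk.Mackey) {T V T' V' : Subgroup Y} (h : Pair D T V) (h' : Pair D T' V') (f f' : Y → ℂ) :
    ip (GF F G) (RV F G T V f) (RV F G T' V' f') = (Nat.card ↥(T ⊓ GF F G) : ℂ)⁻¹ *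
      ∑ᶠ (x : GF F G) (_ : cj (x : Y) T = T'), ip (T ⊓ GF F G) f (fun t => f' (x * t * (x : Y)⁻¹)) := by
  have := finite_GF D
  have := finite_inf_GF D T
  have := finite_inf_GF D T'
  have := Fintype.ofFinite (GF F G)
  have := Fintype.ofFinite ↥(T ⊓ GF F G)
  have := Fintype.ofFinite ↥(T' ⊓ GF F G)
  obtain ⟨d, hd, h1⟩ := h.exists_isInd
  obtain ⟨d', hd', h1'⟩ := h'.exists_isInd
  refine (h1 d hd dvd_rfl).orth (h1' d' hd' dvd_rfl) (fun a ha b hb => h.comm ha.1 hb.1)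
    (fun a ha b hb => h'.comm ha.1 hb.1) _ (fun x hx t ht => ?_) (fun θ θ' hθ hθ' => ?_) f f'
  · rw [← hx, cj_inf x.2]; exact conj_mem_cj.2 ht
  · obtain ⟨d₀, hd₀, h2⟩ := mackey_pair hM h h' hθ hθ'
    have hpos : 0 < d₀ * d * d' := by positivity
    obtain ⟨e, L, P, h3, h4⟩ := h2 (d₀ * d * d') hpos (Dvd.intro (d * d') (by ring))
    have i1 := h1 _ hpos (Dvd.intro (d₀ * d') (by ring))
    have i2 := h1' _ hpos (dvd_mul_left _ _)
    rw [i1.ip_eq i2, lef_of_laurent (expC_classInner (fun g => (i1.expI_cmp θ g).1)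
      fun g => (i2.expI_cmp θ' g).1)
      (pow_ne_zero _ (Nat.cast_ne_zero.2 (Fact.out : p.Prime).ne_zero)) h3, h4]

/-- purity of the counts -/
theorem Lev.pInd (hM : Mk.Mackey) {T V : Subgroup Y} {d e : ℕ} (h : Lev D T V d e) {g t : Y} (hg : g ∈ GF F G)
    (ht : t ∈ T ⊓ GF F G) : CF.PInd p fun m => CF.cntF F G V g t (d * m) := by
  have := finite_GF D
  have := finite_inf_GF D T
  have := Fintype.ofFinite (GF F G)
  have := Fintype.ofFinite ↥(T ⊓ GF F G)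
  refine ⟨(h.isInd.expI hg ht).1, fun l hl hlp ψ => ?_⟩
  refine h.isInd.lInd' (fun a ha b hb => h.pair.comm ha.1 hb.1) hl.1.ne_zero (padicComplex_norm_lt_one l) ψ
    (fun θ hθ => ?_) hg ht
  obtain ⟨d₀, hd₀, h2⟩ := mackey_pair hM h.pair h.pair hθ hθ
  obtain ⟨e', L, P, h3, -⟩ := h2 (d * d₀) (Nat.mul_pos h.1.d_pos hd₀) (dvd_mul_left _ _)
  have h4 : ‖(p : ℂ_[l])‖ = 1 :=
    padicComplex_norm_natCast_of_coprime l ((Nat.coprime_primes hl.1 Fact.out).2 hlp)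
  refine ⟨d₀, hd₀, (unitBases_of_laurent (by simp [h4]) (by simp [h4]) h3).congr fun m _ => ?_⟩
  have e1 : ∀ θ, cmp (GF F G) (T ⊓ GF F G) (cn F G V (d * d₀)) θ m =
      cmp (GF F G) (T ⊓ GF F G) (cn F G V d) θ (d₀ * m) := fun θ => by
    funext g
    simp only [cmp, cn, mul_assoc d]
  rw [e1]

theorem Pair.exists_pInd (hM : Mk.Mackey) {T V : Subgroup Y} (h : Pair D T V) :
    ∃ d₀, 0 < d₀ ∧ ∀ d, 0 < d → d₀ ∣ d → ∀ g ∈ GF F G, ∀ t ∈ T ⊓ GF F G,
      CF.PInd p fun m => CF.cntF F G V g t (d * m) := by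
  obtain ⟨d₀, hd₀, h1⟩ := h.exists_lev
  refine ⟨d₀, hd₀, fun d hd hdd g hg t ht => ?_⟩
  obtain ⟨e, h2⟩ := h1 d hd hdd
  exact h2.pInd hM hg ht

/-- the Lefschetz numbers are integers -/
theorem Pair.lam_int {T V : Subgroup Y} (h : Pair D T V) {g t : Y} (hg : g ∈ GF F G) (ht : t ∈ T ⊓ GF F G) :
    ∃ n : ℤ, CF.lam F G V g t = n := by
  have := finite_GF D
  have := finite_inf_GF D T
  have := Fintype.ofFinite (GF F G)
  have := Fintype.ofFinite ↥(T ⊓ GF F G)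
  obtain ⟨d, hd, h1⟩ := h.exists_isInd
  have h2 := h1 d hd dvd_rfl
  rw [CF.lam_eq hd (h2.expI hg ht).1]
  exact h2.spec.lefFun_int (⟨g, hg⟩, ⟨t, ht⟩) fun m _ => ⟨_, (Rat.cast_natCast _).symm⟩

/-- the induction does not depend on the Borel subgroup -/
theorem Pair.indep (hM : Mk.Mackey) {T V V' : Subgroup Y} (h : Pair D T V) (h' : Pair D T V') (f : Y → ℂ) :
    ∀ g ∈ GF F G, RV F G T V f g = RV F G T V' f g := by
  have := finite_GF D
  intro g hg
  refine sub_eq_zero.1 (eq_zero_of_ip_self (f := RV F G T V f - RV F G T V' f) ?_ g hg)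
  rw [ip_sub_left, ip_sub_right, ip_sub_right, h.orth hM h, h.orth hM h', h'.orth hM h, h'.orth hM h']
  ring

theorem Pair.R_eq (hM : Mk.Mackey) {T V : Subgroup Y} (h : Pair D T V) (f : Y → ℂ) :
    ∀ g ∈ GF F G, R D T f g = RV F G T V f g := (pair_Vof h.mem_tori).indep hM h f

/-- The system of one group, from the count of the tori and the `p`-constant functions. -/
theorem sys (hM : Mk.Mackey) (D : Datum p ρ F G)
    (hcount : ∑ᶠ T ∈ tori D, Nat.card ↥(T ⊓ GF F G) = Nat.card (GF F G))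
    (hpc : ∀ T ∈ tori D, ∀ φ f : Y → ℂ, PConst p (GF F G) φ → ∀ h ∈ GF F G,
      R D T (φ * f) h = φ h * R D T f h) : Sys p (GF F G) (tori D) (R D) where
  finH := finite_GF D
  finA := by
    have := finite_GF D
    by_contra h
    rw [finsum_mem_eq_zero_of_infinite] at hcount
    · exact Nat.card_pos.ne hcount
    · refine Set.Infinite.mono (fun T hT => ⟨hT, ?_⟩) h
      have := finite_inf_GF D T
      exact Nat.card_pos.ne'
  conjA _ hx _ hT := ((pair_Vof hT).conj hx).mem_tori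
  comm _ hT _ ha _ hb := (pair_Vof hT).comm ha.1 hb.1
  ss _ hT _ ht := (pair_Vof hT).ss ht.1
  gen _ hT _ hθ := (pair_Vof hT).gen hθ
  orth _ hT _ hT' := (pair_Vof hT).orth hM (pair_Vof hT')
  triv _ hT := (pair_Vof hT).triv
  count := hcount
  pconst := hpc

end Cfsg.Agent.DL.Asm
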